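import Cfsg.Agent.Lib.Perm.SpecPSL2A
import Cfsg.Agent.Lib.Dickson.Full
import Cfsg.Agent.Lib.Classical.SmallIso

/-!
# Groups of order dividing `q(q²-1)` with a self-centralising subgroup of order `q`
-/

set_option autoImplicit false

namespace CfsgLib.CCZ

open Cfsg CfsgLib.BG CfsgLib.BSW CfsgLib.Perm CfsgLib.Perm.SpecPSL CfsgLib.Dickson Subgroup MulAction
open scoped MatrixGroups

variable {G : Type*} [Group G] [Finite G] {F : Type*} [Field F] [Fintype F] {P : Subgroup G}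

theorem zt {q : ℕ} (hS : SelfCent P) (hP : Nat.card P = q) (h1 : 1 < q) (hG : Nat.card G ∣ q * (q ^ 2 - 1))
    (hn : q * q ≤ Nat.card G) : Nat.card (G ⧸ 𝒩(P)) = q + 1 ∧ IsZT G (G ⧸ 𝒩(P)) := by
  have e1 := card_eq_three P
  have e2 := relIndex_dvd_of_selfCent hS
  obtain ⟨k, e3⟩ := hS.dvd_index
  rw [hP] at e2 e3
  rw [← e1, hP, mul_assoc, Nat.mul_dvd_mul_iff_left (by omega)] at hG
  obtain ⟨m, hm⟩ := dvd_of_mul_left_dvd hG
  have h0 : 𝒩(P).index ≠ 1 := fun e => by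
    rw [← e1, e, hP, mul_one] at hn
    have := Nat.le_of_mul_le_mul_left hn (by omega)
    have := Nat.le_of_dvd (by omega) e2
    omega
  have h2 : 𝒩(P).index ≠ 0 := index_ne_zero_of_finite
  have h3 : 𝒩(P).index = q + 1 := by
    rw [show 𝒩(P).index = q * k + 1 by omega] at hm h0 ⊢
    have h4 : q ^ 2 = (q * k + 1) * m + 1 := by have := Nat.one_lt_pow two_ne_zero h1; omega
    have h5 : q ∣ m + 1 := (Nat.dvd_add_right (Dvd.intro (k * m) rfl)).1 ⟨q, by linarith⟩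
    obtain ⟨l, rfl⟩ : ∃ l, k = l + 1 := ⟨k - 1, by rcases k with _ | k <;> simp_all⟩
    have h6 := Nat.le_of_dvd m.succ_pos h5
    rcases l with _ | l
    · simp
    · nlinarith [Nat.zero_le (q * l * m)]
  exact ⟨h3, hS.isZT (by rw [h3, hP]) (hP ▸ ((Nat.coprime_self_sub_right h1.le).2
    (Nat.coprime_one_right _)).coprime_dvd_right e2)⟩

omit [Finite G] in
theorem card_stab2 {Ω : Type*} [MulAction G Ω] [Finite Ω] {q d : ℕ} (hZ : IsZT G Ω) (hΩ : Nat.card Ω = q + 1)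
    (h1 : 1 < q) (hG : d * Nat.card G = q * (q ^ 2 - 1)) {a b : Ω} (hab : a ≠ b) :
    d * Nat.card (stab2 G a b) = q - 1 := by
  rw [hZ.card_group hab, hΩ, Nat.add_sub_cancel, show q ^ 2 - 1 = (q + 1) * (q - 1) by
    simpa using Nat.sq_sub_sq q 1] at hG
  exact Nat.eq_of_mul_eq_mul_left (n := (q + 1) * q) (by positivity) (by linarith)

theorem swap_sq {Ω : Type*} [MulAction G Ω] [Finite Ω] {q : ℕ} (hZ : IsZT G Ω) (hΩ : Nat.card Ω = q + 1) (h1 : 1 < q)
    (ho : Odd q) (hH : ∀ {a b : Ω}, a ≠ b → Nat.card (stab2 G a b) ≤ q - 1) (h : q ^ 2 ≤ {x : G | orderOf x = 2}.ncard)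
    {a b : Ω} (hab : a ≠ b) {g : G} (ha : g • a = b) (hb : g • b = a) : g * g = 1 := by
  classical
  by_contra hg
  have := Fintype.ofFinite G
  have := Fintype.ofFinite Ω
  have k0 : (Finset.univ.erase a).card = q := by
    rw [Finset.card_erase_of_mem (Finset.mem_univ _), Finset.card_univ, ← Nat.card_eq_fintype_card, hΩ]; rfl
  have k1 := Finset.card_le_mul_card_image_of_maps_to (s := {x : G | x • a ≠ a ∧ x • x • a = a})
    (t := Finset.univ.erase a) (f := (· • a)) (by simp +contextual) (q - 1) fun y hy => by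
      obtain ⟨t, h4, h5⟩ := hZ.two_trans (Finset.ne_of_mem_erase hy).symm (Finset.ne_of_mem_erase hy)
      refine le_trans ?_ (hH (Finset.ne_of_mem_erase hy).symm)
      rw [Nat.card_eq_fintype_card, ← Finset.card_univ]
      refine Finset.card_le_card_of_surjOn (fun h => t * h) fun x hx => ⟨⟨t⁻¹ * x, ?_⟩, by simp, by simp⟩
      simp only [Finset.coe_filter, Finset.mem_filter, Finset.mem_univ, true_and, Set.mem_ofPred_eq] at hx
      rw [Perm.mem_stab2, mul_smul, mul_smul, inv_smul_eq_iff, inv_smul_eq_iff, h4, h5]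
      exact ⟨hx.2, hx.2 ▸ hx.1.2⟩
  have k2 : ∀ x : G, orderOf x = 2 ∧ x • a = a → ∃ y, y ≠ a ∧ x • y = y := fun x hx => by
    by_contra! e
    have h3 := card_modEq_card_fixedBy_two (Ω := Ω) (orderOf_eq_two_iff'.1 hx.1).1
    rw [show fixedBy Ω x = {a} from Set.eq_singleton_iff_unique_mem.2 ⟨hx.2, fun y hy => by_contra (e y · hy)⟩, hΩ] at h3
    simp at h3
    obtain ⟨k, rfl⟩ := ho
    omega
  have : Nonempty Ω := ⟨a⟩
  choose! f hf using k2
  have k3 := Finset.card_le_card_of_injOn (s := {x : G | orderOf x = 2 ∧ x • a = a}) (t := Finset.univ.erase a) f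
    (fun x hx => by simpa using (hf x (by simpa using hx)).1) fun x hx y hy e => by
      simp only [Finset.coe_filter, Finset.mem_univ, true_and, Set.mem_ofPred_eq] at hx hy
      exact hZ.invol_unique (by omega) (hf x hx).1.symm ⟨hx.2, (hf x hx).2⟩ (orderOf_eq_two_iff'.1 hx.1).1
        (orderOf_eq_two_iff'.1 hx.1).2 ⟨hy.2, e ▸ (hf y hy).2⟩ (orderOf_eq_two_iff'.1 hy.1).1 (orderOf_eq_two_iff'.1 hy.1).2
  have k4 := (Finset.card_le_card (s := {x : G | orderOf x = 2}) fun x hx => show x ∈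
      ({x : G | x • a ≠ a ∧ x • x • a = a} : Finset G).erase g ∪ ({x : G | orderOf x = 2 ∧ x • a = a} : Finset G) by
    have h3 := (orderOf_eq_two_iff'.1 (Finset.mem_filter.1 hx).2).1
    by_cases e : x • a = a
    · simp_all
    · simp [e, ← mul_smul, h3, show x ≠ g from fun e => hg (e ▸ h3)]).trans (Finset.card_union_le _ _)
  rw [Finset.card_erase_of_mem (by simp [ha, hb, hab.symm])] at k4
  have k5 : 0 < ({x : G | x • a ≠ a ∧ x • x • a = a} : Finset G).card :=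
    Finset.card_pos.2 ⟨g, by simp [ha, hb, hab.symm]⟩
  rw [Set.ncard_eq_toFinset_card', Set.toFinset_ofPred] at h
  obtain ⟨k, rfl⟩ : ∃ k, q = k + 1 := ⟨q - 1, by omega⟩
  rw [k0] at k1 k3
  rw [Nat.add_sub_cancel] at k1
  have : (k + 1) ^ 2 = k * (k + 1) + (k + 1) := by ring
  omega

theorem psl (hS : SelfCent P) (hP : Nat.card P = Fintype.card F) (h4 : 4 ∣ Fintype.card F - 1)
    (hG : 2 * Nat.card G = Fintype.card F * (Fintype.card F ^ 2 - 1)) : Nonempty (G ≃* PSL(2, F)) := by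
  obtain ⟨hΩ, hZ⟩ := zt hS hP Fintype.one_lt_card (Dvd.intro_left _ hG) (by
    have h1 : 1 < Fintype.card F := Fintype.one_lt_card
    have h2 := Nat.mul_le_mul_left (Fintype.card F) (show 2 * Fintype.card F ≤ Fintype.card F ^ 2 - 1 from
      Nat.le_sub_of_add_le (by nlinarith [show 5 ≤ Fintype.card F by omega]))
    linarith)
  have : Nontrivial (G ⧸ 𝒩(P)) := Finite.one_lt_card_iff_nontrivial.1 (by have := Fintype.card_pos (α := F); omega)
  obtain ⟨a, b, hab⟩ := exists_pair_ne (G ⧸ 𝒩(P))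
  have h := card_stab2 hZ hΩ Fintype.one_lt_card hG hab
  obtain ⟨K, _, _, hK, -, φ, -⟩ := hZ.psl_of_even hab (Nat.even_iff.2 (by omega)) (by omega)
  exact ⟨φ.trans (Classical.pslMapEquiv (FiniteField.ringEquivOfCardEq (by omega)))⟩

theorem pgl (hS : SelfCent P) (hP : Nat.card P = Fintype.card F)
    (hG : Nat.card G = Fintype.card F * (Fintype.card F ^ 2 - 1))
    (h2 : Even (Fintype.card F) ∨ Fintype.card F ^ 2 ≤ {x : G | orderOf x = 2}.ncard) : Nonempty (G ≃* PGL(2, F)) := by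
  classical
  have h1 : 1 < Fintype.card F := Fintype.one_lt_card
  obtain ⟨hΩ, hZ⟩ := zt hS hP h1 hG.dvd (hG ▸ Nat.mul_le_mul_left _ (Nat.le_sub_of_add_le (by nlinarith)))
  have hH : ∀ {a b : G ⧸ 𝒩(P)}, a ≠ b → Nat.card (stab2 G a b) = Fintype.card F - 1 := fun hab => by
    simpa using card_stab2 (d := 1) hZ hΩ h1 (by simpa) hab
  have : Nontrivial (G ⧸ 𝒩(P)) := Finite.one_lt_card_iff_nontrivial.1 (by omega)
  obtain ⟨a, b, hab⟩ := exists_pair_ne (G ⧸ 𝒩(P))
  have h3 := hZ.three_trans_of_card hab (by rw [hH hab]; omega)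
  suffices ∃ (K : Type) (_ : Field K) (_ : Fintype K), Nat.card (G ⧸ 𝒩(P)) = Fintype.card K + 1 ∧
      Nonempty (G ≃* PGL(2, K)) by
    obtain ⟨K, _, _, hK, ⟨φ⟩⟩ := this
    exact ⟨φ.trans (Classical.pglMapEquiv (FiniteField.ringEquivOfCardEq (by omega)))⟩
  by_cases he : Even (Fintype.card F)
  · obtain ⟨K, _, _, hK, φ, -⟩ := hZ.pgl_of_odd h3 (by omega) (hΩ ▸ he.add_one)
    exact ⟨K, _, _, hK, ⟨φ⟩⟩
  obtain ⟨c, hac, hbc⟩ := exists_ne_ne_of_card (by omega) a b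
  obtain ⟨s, hsa, hsb, hsc⟩ := isMultiplyPretransitive_three_iff.mp h3 a b c b a c hab hac hbc hab.symm hbc hac
  obtain ⟨K, _, _, hK, φ, -⟩ := hZ.pgl_of_inverted h3 hab hac hbc hsa hsb hsc
    (conj_eq_inv_of_swap_mul_self (fun _ => swap_sq hZ hΩ (by omega) (Nat.not_even_iff_odd.1 he) (fun h => (hH h).le)
      (h2.resolve_left he) hab) hsa hsb)
  exact ⟨K, _, _, hK, ⟨φ⟩⟩

end CfsgLib.CCZ
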